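import Cfsg.Agent.Lib.Schur.Cert.Fi24p2.D

set_option autoImplicit false
set_option maxRecDepth 100000
set_option maxHeartbeats 0
set_option Elab.async false

namespace Cfsg.Agent.Lib.Schur.Cert.Fi24p2

open Cfsg.Agent.Lib.Schur.PcMain Cfsg.Agent.Lib.Schur.PcBase Cfsg.Agent.Lib.Schur.PcCert Cfsg.Agent.Lib.Schur.PcSplit

theorem ck_tg150 : decide ((C.combo tg_150.2.2).filter (fun q => !(tS_150.contains q.1)) = normS [(tg_150.1, (1 : ℤ)), (C.k0, tg_150.2.1)]) = true := by decide +kernel

theorem ck_tg151 : decide ((C.combo tg_151.2.2).filter (fun q => !(tS_151.contains q.1)) = normS [(tg_151.1, (1 : ℤ)), (C.k0, tg_151.2.1)]) = true := by decide +kernel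

theorem ck_tg152 : decide ((C.combo tg_152.2.2).filter (fun q => !(tS_152.contains q.1)) = normS [(tg_152.1, (1 : ℤ)), (C.k0, tg_152.2.1)]) = true := by decide +kernel

theorem ck_tg153 : decide ((C.combo tg_153.2.2).filter (fun q => !(tS_153.contains q.1)) = normS [(tg_153.1, (1 : ℤ)), (C.k0, tg_153.2.1)]) = true := by decide +kernel

theorem ck_tg154 : decide ((C.combo tg_154.2.2).filter (fun q => !(tS_154.contains q.1)) = normS [(tg_154.1, (1 : ℤ)), (C.k0, tg_154.2.1)]) = true := by decide +kernel

theorem ck_tg155 : decide ((C.combo tg_155.2.2).filter (fun q => !(tS_155.contains q.1)) = normS [(tg_155.1, (1 : ℤ)), (C.k0, tg_155.2.1)]) = true := by decide +kernel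

theorem ck_tg156 : decide ((C.combo tg_156.2.2).filter (fun q => !(tS_156.contains q.1)) = normS [(tg_156.1, (1 : ℤ)), (C.k0, tg_156.2.1)]) = true := by decide +kernel

theorem ck_tg157 : decide ((C.combo tg_157.2.2).filter (fun q => !(tS_157.contains q.1)) = normS [(tg_157.1, (1 : ℤ)), (C.k0, tg_157.2.1)]) = true := by decide +kernel

theorem ck_tg158 : decide ((C.combo tg_158.2.2).filter (fun q => !(tS_158.contains q.1)) = normS [(tg_158.1, (1 : ℤ)), (C.k0, tg_158.2.1)]) = true := by decide +kernel

theorem ck_tg159 : decide ((C.combo tg_159.2.2).filter (fun q => !(tS_159.contains q.1)) = normS [(tg_159.1, (1 : ℤ)), (C.k0, tg_159.2.1)]) = true := by decide +kernel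

theorem ck_tg160 : decide ((C.combo tg_160.2.2).filter (fun q => !(tS_160.contains q.1)) = normS [(tg_160.1, (1 : ℤ)), (C.k0, tg_160.2.1)]) = true := by decide +kernel

theorem ck_tg161 : decide ((C.combo tg_161.2.2).filter (fun q => !(tS_161.contains q.1)) = normS [(tg_161.1, (1 : ℤ)), (C.k0, tg_161.2.1)]) = true := by decide +kernel

theorem ck_tg162 : decide ((C.combo tg_162.2.2).filter (fun q => !(tS_162.contains q.1)) = normS [(tg_162.1, (1 : ℤ)), (C.k0, tg_162.2.1)]) = true := by decide +kernel

theorem ck_tg163 : decide ((C.combo tg_163.2.2).filter (fun q => !(tS_163.contains q.1)) = normS [(tg_163.1, (1 : ℤ)), (C.k0, tg_163.2.1)]) = true := by decide +kernel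

theorem ck_tg164 : decide ((C.combo tg_164.2.2).filter (fun q => !(tS_164.contains q.1)) = normS [(tg_164.1, (1 : ℤ)), (C.k0, tg_164.2.1)]) = true := by decide +kernel

theorem ck_tg165 : decide ((C.combo tg_165.2.2).filter (fun q => !(tS_165.contains q.1)) = normS [(tg_165.1, (1 : ℤ)), (C.k0, tg_165.2.1)]) = true := by decide +kernel

theorem ck_tg166 : decide ((C.combo tg_166.2.2).filter (fun q => !(tS_166.contains q.1)) = normS [(tg_166.1, (1 : ℤ)), (C.k0, tg_166.2.1)]) = true := by decide +kernel

theorem ck_tg167 : decide ((C.combo tg_167.2.2).filter (fun q => !(tS_167.contains q.1)) = normS [(tg_167.1, (1 : ℤ)), (C.k0, tg_167.2.1)]) = true := by decide +kernel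

theorem ck_tg168 : decide ((C.combo tg_168.2.2).filter (fun q => !(tS_168.contains q.1)) = normS [(tg_168.1, (1 : ℤ)), (C.k0, tg_168.2.1)]) = true := by decide +kernel

theorem ck_tg169 : decide ((C.combo tg_169.2.2).filter (fun q => !(tS_169.contains q.1)) = normS [(tg_169.1, (1 : ℤ)), (C.k0, tg_169.2.1)]) = true := by decide +kernel

theorem ck_tg170 : decide ((C.combo tg_170.2.2).filter (fun q => !(tS_170.contains q.1)) = normS [(tg_170.1, (1 : ℤ)), (C.k0, tg_170.2.1)]) = true := by decide +kernel

theorem ck_tg171 : decide ((C.combo tg_171.2.2).filter (fun q => !(tS_171.contains q.1)) = normS [(tg_171.1, (1 : ℤ)), (C.k0, tg_171.2.1)]) = true := by decide +kernel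

theorem ck_tg172 : decide ((C.combo tg_172.2.2).filter (fun q => !(tS_172.contains q.1)) = normS [(tg_172.1, (1 : ℤ)), (C.k0, tg_172.2.1)]) = true := by decide +kernel

theorem ck_tg173 : decide ((C.combo tg_173.2.2).filter (fun q => !(tS_173.contains q.1)) = normS [(tg_173.1, (1 : ℤ)), (C.k0, tg_173.2.1)]) = true := by decide +kernel

theorem ck_tg174 : decide ((C.combo tg_174.2.2).filter (fun q => !(tS_174.contains q.1)) = normS [(tg_174.1, (1 : ℤ)), (C.k0, tg_174.2.1)]) = true := by decide +kernel

theorem ck_tg175 : decide ((C.combo tg_175.2.2).filter (fun q => !(tS_175.contains q.1)) = normS [(tg_175.1, (1 : ℤ)), (C.k0, tg_175.2.1)]) = true := by decide +kernel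

theorem ck_tg176 : decide ((C.combo tg_176.2.2).filter (fun q => !(tS_176.contains q.1)) = normS [(tg_176.1, (1 : ℤ)), (C.k0, tg_176.2.1)]) = true := by decide +kernel

theorem ck_tg177 : decide ((C.combo tg_177.2.2).filter (fun q => !(tS_177.contains q.1)) = normS [(tg_177.1, (1 : ℤ)), (C.k0, tg_177.2.1)]) = true := by decide +kernel

theorem ck_tg178 : decide ((C.combo tg_178.2.2).filter (fun q => !(tS_178.contains q.1)) = normS [(tg_178.1, (1 : ℤ)), (C.k0, tg_178.2.1)]) = true := by decide +kernel

theorem ck_tg179 : decide ((C.combo tg_179.2.2).filter (fun q => !(tS_179.contains q.1)) = normS [(tg_179.1, (1 : ℤ)), (C.k0, tg_179.2.1)]) = true := by decide +kernel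

theorem ck_tg180 : decide ((C.combo tg_180.2.2).filter (fun q => !(tS_180.contains q.1)) = normS [(tg_180.1, (1 : ℤ)), (C.k0, tg_180.2.1)]) = true := by decide +kernel

theorem ck_tg181 : decide ((C.combo tg_181.2.2).filter (fun q => !(tS_181.contains q.1)) = normS [(tg_181.1, (1 : ℤ)), (C.k0, tg_181.2.1)]) = true := by decide +kernel

theorem ck_tg182 : decide ((C.combo tg_182.2.2).filter (fun q => !(tS_182.contains q.1)) = normS [(tg_182.1, (1 : ℤ)), (C.k0, tg_182.2.1)]) = true := by decide +kernel

theorem ck_tg183 : decide ((C.combo tg_183.2.2).filter (fun q => !(tS_183.contains q.1)) = normS [(tg_183.1, (1 : ℤ)), (C.k0, tg_183.2.1)]) = true := by decide +kernel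

theorem ck_tg184 : decide ((C.combo tg_184.2.2).filter (fun q => !(tS_184.contains q.1)) = normS [(tg_184.1, (1 : ℤ)), (C.k0, tg_184.2.1)]) = true := by decide +kernel

theorem ck_tg185 : decide ((C.combo tg_185.2.2).filter (fun q => !(tS_185.contains q.1)) = normS [(tg_185.1, (1 : ℤ)), (C.k0, tg_185.2.1)]) = true := by decide +kernel

theorem ck_tg186 : decide ((C.combo tg_186.2.2).filter (fun q => !(tS_186.contains q.1)) = normS [(tg_186.1, (1 : ℤ)), (C.k0, tg_186.2.1)]) = true := by decide +kernel

theorem ck_tg187 : decide ((C.combo tg_187.2.2).filter (fun q => !(tS_187.contains q.1)) = normS [(tg_187.1, (1 : ℤ)), (C.k0, tg_187.2.1)]) = true := by decide +kernel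

theorem ck_tg188 : decide ((C.combo tg_188.2.2).filter (fun q => !(tS_188.contains q.1)) = normS [(tg_188.1, (1 : ℤ)), (C.k0, tg_188.2.1)]) = true := by decide +kernel

theorem ck_tg189 : decide ((C.combo tg_189.2.2).filter (fun q => !(tS_189.contains q.1)) = normS [(tg_189.1, (1 : ℤ)), (C.k0, tg_189.2.1)]) = true := by decide +kernel

theorem ck_tg190 : decide ((C.combo tg_190.2.2).filter (fun q => !(tS_190.contains q.1)) = normS [(tg_190.1, (1 : ℤ)), (C.k0, tg_190.2.1)]) = true := by decide +kernel

theorem ck_tg191 : decide ((C.combo tg_191.2.2).filter (fun q => !(tS_191.contains q.1)) = normS [(tg_191.1, (1 : ℤ)), (C.k0, tg_191.2.1)]) = true := by decide +kernel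

theorem ck_tg192 : decide ((C.combo tg_192.2.2).filter (fun q => !(tS_192.contains q.1)) = normS [(tg_192.1, (1 : ℤ)), (C.k0, tg_192.2.1)]) = true := by decide +kernel

theorem ck_tg193 : decide ((C.combo tg_193.2.2).filter (fun q => !(tS_193.contains q.1)) = normS [(tg_193.1, (1 : ℤ)), (C.k0, tg_193.2.1)]) = true := by decide +kernel

theorem ck_tg194 : decide ((C.combo tg_194.2.2).filter (fun q => !(tS_194.contains q.1)) = normS [(tg_194.1, (1 : ℤ)), (C.k0, tg_194.2.1)]) = true := by decide +kernel

theorem ck_tg195 : decide ((C.combo tg_195.2.2).filter (fun q => !(tS_195.contains q.1)) = normS [(tg_195.1, (1 : ℤ)), (C.k0, tg_195.2.1)]) = true := by decide +kernel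

theorem ck_tg196 : decide ((C.combo tg_196.2.2).filter (fun q => !(tS_196.contains q.1)) = normS [(tg_196.1, (1 : ℤ)), (C.k0, tg_196.2.1)]) = true := by decide +kernel

theorem ck_tg197 : decide ((C.combo tg_197.2.2).filter (fun q => !(tS_197.contains q.1)) = normS [(tg_197.1, (1 : ℤ)), (C.k0, tg_197.2.1)]) = true := by decide +kernel

theorem ck_tg198 : decide ((C.combo tg_198.2.2).filter (fun q => !(tS_198.contains q.1)) = normS [(tg_198.1, (1 : ℤ)), (C.k0, tg_198.2.1)]) = true := by decide +kernel

theorem ck_tg199 : decide ((C.combo tg_199.2.2).filter (fun q => !(tS_199.contains q.1)) = normS [(tg_199.1, (1 : ℤ)), (C.k0, tg_199.2.1)]) = true := by decide +kernel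

theorem ck_tg200 : decide ((C.combo tg_200.2.2).filter (fun q => !(tS_200.contains q.1)) = normS [(tg_200.1, (1 : ℤ)), (C.k0, tg_200.2.1)]) = true := by decide +kernel

theorem ck_tg201 : decide ((C.combo tg_201.2.2).filter (fun q => !(tS_201.contains q.1)) = normS [(tg_201.1, (1 : ℤ)), (C.k0, tg_201.2.1)]) = true := by decide +kernel

theorem ck_tg202 : decide ((C.combo tg_202.2.2).filter (fun q => !(tS_202.contains q.1)) = normS [(tg_202.1, (1 : ℤ)), (C.k0, tg_202.2.1)]) = true := by decide +kernel

theorem ck_tg203 : decide ((C.combo tg_203.2.2).filter (fun q => !(tS_203.contains q.1)) = normS [(tg_203.1, (1 : ℤ)), (C.k0, tg_203.2.1)]) = true := by decide +kernel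

theorem ck_tg204 : decide ((C.combo tg_204.2.2).filter (fun q => !(tS_204.contains q.1)) = normS [(tg_204.1, (1 : ℤ)), (C.k0, tg_204.2.1)]) = true := by decide +kernel

theorem ck_tg205 : decide ((C.combo tg_205.2.2).filter (fun q => !(tS_205.contains q.1)) = normS [(tg_205.1, (1 : ℤ)), (C.k0, tg_205.2.1)]) = true := by decide +kernel

theorem ck_tg206 : decide ((C.combo tg_206.2.2).filter (fun q => !(tS_206.contains q.1)) = normS [(tg_206.1, (1 : ℤ)), (C.k0, tg_206.2.1)]) = true := by decide +kernel

theorem ck_tg207 : decide ((C.combo tg_207.2.2).filter (fun q => !(tS_207.contains q.1)) = normS [(tg_207.1, (1 : ℤ)), (C.k0, tg_207.2.1)]) = true := by decide +kernel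

theorem ck_tg208 : decide ((C.combo tg_208.2.2).filter (fun q => !(tS_208.contains q.1)) = normS [(tg_208.1, (1 : ℤ)), (C.k0, tg_208.2.1)]) = true := by decide +kernel

theorem ck_tg209 : decide ((C.combo tg_209.2.2).filter (fun q => !(tS_209.contains q.1)) = normS [(tg_209.1, (1 : ℤ)), (C.k0, tg_209.2.1)]) = true := by decide +kernel

theorem ck_tg210 : decide ((C.combo tg_210.2.2).filter (fun q => !(tS_210.contains q.1)) = normS [(tg_210.1, (1 : ℤ)), (C.k0, tg_210.2.1)]) = true := by decide +kernel

theorem ck_tg211 : decide ((C.combo tg_211.2.2).filter (fun q => !(tS_211.contains q.1)) = normS [(tg_211.1, (1 : ℤ)), (C.k0, tg_211.2.1)]) = true := by decide +kernel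

theorem ck_tg212 : decide ((C.combo tg_212.2.2).filter (fun q => !(tS_212.contains q.1)) = normS [(tg_212.1, (1 : ℤ)), (C.k0, tg_212.2.1)]) = true := by decide +kernel

theorem ck_tg213 : decide ((C.combo tg_213.2.2).filter (fun q => !(tS_213.contains q.1)) = normS [(tg_213.1, (1 : ℤ)), (C.k0, tg_213.2.1)]) = true := by decide +kernel

theorem ck_tg214 : decide ((C.combo tg_214.2.2).filter (fun q => !(tS_214.contains q.1)) = normS [(tg_214.1, (1 : ℤ)), (C.k0, tg_214.2.1)]) = true := by decide +kernel

theorem ck_tg215 : decide ((C.combo tg_215.2.2).filter (fun q => !(tS_215.contains q.1)) = normS [(tg_215.1, (1 : ℤ)), (C.k0, tg_215.2.1)]) = true := by decide +kernel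

theorem ck_tg216 : decide ((C.combo tg_216.2.2).filter (fun q => !(tS_216.contains q.1)) = normS [(tg_216.1, (1 : ℤ)), (C.k0, tg_216.2.1)]) = true := by decide +kernel

theorem ck_tg217 : decide ((C.combo tg_217.2.2).filter (fun q => !(tS_217.contains q.1)) = normS [(tg_217.1, (1 : ℤ)), (C.k0, tg_217.2.1)]) = true := by decide +kernel

theorem ck_tg218 : decide ((C.combo tg_218.2.2).filter (fun q => !(tS_218.contains q.1)) = normS [(tg_218.1, (1 : ℤ)), (C.k0, tg_218.2.1)]) = true := by decide +kernel

theorem ck_tg219 : decide ((C.combo tg_219.2.2).filter (fun q => !(tS_219.contains q.1)) = normS [(tg_219.1, (1 : ℤ)), (C.k0, tg_219.2.1)]) = true := by decide +kernel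

theorem ck_tg220 : decide ((C.combo tg_220.2.2).filter (fun q => !(tS_220.contains q.1)) = normS [(tg_220.1, (1 : ℤ)), (C.k0, tg_220.2.1)]) = true := by decide +kernel

theorem ck_tg221 : decide ((C.combo tg_221.2.2).filter (fun q => !(tS_221.contains q.1)) = normS [(tg_221.1, (1 : ℤ)), (C.k0, tg_221.2.1)]) = true := by decide +kernel

theorem ck_tg222 : decide ((C.combo tg_222.2.2).filter (fun q => !(tS_222.contains q.1)) = normS [(tg_222.1, (1 : ℤ)), (C.k0, tg_222.2.1)]) = true := by decide +kernel

theorem ck_tg223 : decide ((C.combo tg_223.2.2).filter (fun q => !(tS_223.contains q.1)) = normS [(tg_223.1, (1 : ℤ)), (C.k0, tg_223.2.1)]) = true := by decide +kernel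

theorem ck_tg224 : decide ((C.combo tg_224.2.2).filter (fun q => !(tS_224.contains q.1)) = normS [(tg_224.1, (1 : ℤ)), (C.k0, tg_224.2.1)]) = true := by decide +kernel

theorem ck_tg225 : decide ((C.combo tg_225.2.2).filter (fun q => !(tS_225.contains q.1)) = normS [(tg_225.1, (1 : ℤ)), (C.k0, tg_225.2.1)]) = true := by decide +kernel


end Cfsg.Agent.Lib.Schur.Cert.Fi24p2
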